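import Mathlib
import Groth.Agent.RegLocal.Complete
import Groth.Agent.AdicLemmas.Basic

/-! Basic facts on finite modules over adically complete rings. -/

set_option autoImplicit false
universe u v w

namespace Groth.Agent.AdicEasyLib

variable {A : Type u} [CommRing A] (I : Ideal A)

theorem isPrecomplete_of_finite [IsPrecomplete I A] (M : Type v) [AddCommGroup M] [Module A M]
    [Module.Finite A M] : IsPrecomplete I M := by
  obtain ⟨s, q, hq⟩ := Module.Finite.exists_fin' A M
  rw [← AdicCompletion.of_surjective_iff]
  intro y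
  obtain ⟨u, rfl⟩ := AdicCompletion.map_surjective (I := I) hq y
  choose c hc using fun j => AdicCompletion.of_surjective I A
    (AdicCompletion.pi I (fun _ : Fin s => A) u j)
  refine ⟨q c, ?_⟩
  rw [← AdicCompletion.map_of]
  congr 1
  refine (AdicCompletion.piEquivFin I s).injective ?_
  rw [AdicCompletion.piEquivFin_apply, AdicCompletion.piEquivFin_apply]
  funext j
  rw [← hc j]
  exact AdicCompletion.map_of I (LinearMap.proj (R := A) (φ := fun _ : Fin s => A) j) c

theorem isAdicComplete_of_finite [IsNoetherianRing A] [IsAdicComplete I A] (M : Type v)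
    [AddCommGroup M] [Module A M] [Module.Finite A M] : IsAdicComplete I M :=
  { toIsPrecomplete := isPrecomplete_of_finite I M
    toIsHausdorff := IsHausdorff.of_le_jacobson I M (IsAdicComplete.le_jacobson_bot I) }

theorem isHausdorff_of_injective {M : Type v} {N : Type w} [AddCommGroup M] [Module A M]
    [AddCommGroup N] [Module A N] [IsHausdorff I N] (f : M →ₗ[A] N) (hf : Function.Injective f) :
    IsHausdorff I M :=
  ⟨fun x hx => hf <| (map_zero f).symm ▸ IsHausdorff.haus (I := I) inferInstance (f x) fun n => by
    rw [SModEq.zero]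
    exact Submodule.smul_top_le_comap_smul_top (I ^ n) f (SModEq.zero.1 (hx n))⟩

theorem isHausdorff_pi [IsHausdorff I A] (ι : Type v) : IsHausdorff I (ι → A) :=
  ⟨fun x hx => funext fun i => IsHausdorff.haus (I := I) inferInstance (x i) fun n => by
    rw [SModEq.zero]
    exact Submodule.smul_top_le_comap_smul_top (I ^ n)
      (LinearMap.proj i : (ι → A) →ₗ[A] A) (SModEq.zero.1 (hx n))⟩

theorem fg_of_quotient_sq (J : Ideal A) [IsAdicComplete J A] [IsNoetherianRing (A ⧸ J ^ 2)] :
    J.FG := by
  haveI : Module.Finite A J.Cotangent := by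
    haveI : Module.Finite (A ⧸ J ^ 2) J.cotangentIdeal :=
      Module.Finite.iff_fg.2 (IsNoetherian.noetherian J.cotangentIdeal)
    haveI : Module.Finite A J.cotangentIdeal := Module.Finite.trans (A ⧸ J ^ 2) _
    exact Module.Finite.equiv J.cotangentEquivIdeal.symm
  haveI : IsHausdorff J J := isHausdorff_of_injective J (Submodule.subtype J) (Submodule.subtype_injective J)
  haveI := AdicLemmas.module_finite_of_quotient_finite J J
    (inferInstanceAs (Module.Finite A J.Cotangent))
  exact Module.Finite.iff_fg.1 inferInstance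

end Groth.Agent.AdicEasyLib

namespace Groth.Agent.AdicEasyLib

open IsLocalRing in
theorem isArtinian_of_killed {A : Type u} [CommRing A] [IsLocalRing A] (Q : Type v) [AddCommGroup Q]
    [Module A Q] [Module.Finite A Q] (h : ∀ a ∈ maximalIdeal A, ∀ z : Q, a • z = 0) : IsArtinian A Q := by
  obtain ⟨n, q, hq⟩ := Module.Finite.exists_fin' A Q
  haveI : IsArtinian A (A ⧸ maximalIdeal A) :=
    have : IsArtinian A (ResidueField A) :=
      isArtinian_of_surjective_algebraMap (R := ResidueField A) (S := A) residue_surjective
    this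
  let p : Submodule A (Fin n → A) := Submodule.pi Set.univ fun _ => maximalIdeal A
  haveI : IsArtinian A ((Fin n → A) ⧸ p) := by
    refine isArtinian_of_linearEquiv (Submodule.quotientPi fun _ : Fin n => maximalIdeal A).symm
  refine isArtinian_of_surjective _ (p.liftQ q fun x hx => ?_) fun y => ?_
  · rw [LinearMap.mem_ker, pi_eq_sum_univ x, map_sum]
    refine Finset.sum_eq_zero fun i _ => ?_
    rw [map_smul]
    exact h _ (hx i trivial) _
  · obtain ⟨x, rfl⟩ := hq y
    exact ⟨Submodule.Quotient.mk x, rfl⟩

end Groth.Agent.AdicEasyLib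

namespace Groth.Agent.AdicEasyLib

open IsLocalRing in
theorem isNoetherian_of_killed {A : Type u} [CommRing A] [IsLocalRing A] (Q : Type v) [AddCommGroup Q]
    [Module A Q] [Module.Finite A Q] (h : ∀ a ∈ maximalIdeal A, ∀ z : Q, a • z = 0) : IsNoetherian A Q := by
  haveI := isArtinian_of_killed Q h
  let _ : Module (A ⧸ maximalIdeal A) Q :=
    Module.IsTorsionBySet.module (I := maximalIdeal A) fun z a => h a.1 a.2 z
  haveI : IsScalarTower A (A ⧸ maximalIdeal A) Q :=
    Module.IsTorsionBySet.isScalarTower (I := maximalIdeal A) fun z a => h a.1 a.2 z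
  letI := Ideal.Quotient.field (maximalIdeal A)
  haveI : Module.Finite (A ⧸ maximalIdeal A) Q := Module.Finite.of_restrictScalars_finite A _ _
  haveI : IsNoetherian (A ⧸ maximalIdeal A) Q := inferInstance
  exact isNoetherian_iff'.2 (StrictMono.wellFoundedGT
    (f := fun P : Submodule A Q => (⟨P.toAddSubmonoid, fun r x hx => by
      obtain ⟨r, rfl⟩ := Ideal.Quotient.mk_surjective r
      rw [← Ideal.Quotient.algebraMap_eq, algebraMap_smul]
      exact P.smul_mem r hx⟩ : Submodule (A ⧸ maximalIdeal A) Q)) fun P R h => h)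

end Groth.Agent.AdicEasyLib
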