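import Mathlib

/-! The ring attached to a symmetric Hochschild cocycle. -/

set_option autoImplicit false
universe u v

namespace Groth.Agent.AdicEasyLib

variable {A : Type u} {B L : Type v} [CommRing A] [CommRing B] [Algebra A B] [AddCommGroup L] [Module B L]
  [Module A L] (f : B →ₗ[A] B →ₗ[A] L) (hsymm : ∀ x y : B, f x y = f y x)
  (hcoc : ∀ x y z : B, f (x * y) z + z • f x y = x • f y z + f x (y * z))

/-- `B × L` with multiplication twisted by the cocycle. -/
@[nolint unusedArguments]
structure Hoch (_hsymm : ∀ x y : B, f x y = f y x)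
    (_hcoc : ∀ x y z : B, f (x * y) z + z • f x y = x • f y z + f x (y * z)) : Type v where
  fst : B
  snd : L

variable {f} {hsymm} {hcoc}

@[ext]
theorem Hoch.ext {x y : Hoch f hsymm hcoc} (h1 : x.fst = y.fst) (h2 : x.snd = y.snd) : x = y := by
  cases x; cases y; simp_all

variable (f) (hcoc)

include hcoc in
theorem Hoch.f_one (z : B) : f 1 z = z • f 1 1 := by
  have h := hcoc 1 1 z
  rw [one_mul, one_mul, one_smul] at h
  exact (add_left_cancel h).symm

variable (hsymm)

/-- The underlying pairs. -/
def Hoch.toProd : Hoch f hsymm hcoc ≃ B × L where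
  toFun x := (x.fst, x.snd)
  invFun p := ⟨p.1, p.2⟩
  left_inv _ := rfl
  right_inv _ := rfl

instance : AddCommGroup (Hoch f hsymm hcoc) := (Hoch.toProd f hsymm hcoc).addCommGroup

/-- The ring structure. -/
abbrev hochRing : CommRing (Hoch f hsymm hcoc) :=
  { (inferInstance : AddCommGroup (Hoch f hsymm hcoc)) with
    one := ⟨1, -f 1 1⟩
    mul := fun x y => ⟨x.fst * y.fst, x.fst • y.snd + y.fst • x.snd + f x.fst y.fst⟩
    mul_assoc := fun x y z => Hoch.ext (mul_assoc x.fst y.fst z.fst) (by
      show (x.fst * y.fst) • z.snd + z.fst • (x.fst • y.snd + y.fst • x.snd + f x.fst y.fst) +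
          f (x.fst * y.fst) z.fst =
        x.fst • (y.fst • z.snd + z.fst • y.snd + f y.fst z.fst) + (y.fst * z.fst) • x.snd +
          f x.fst (y.fst * z.fst)
      linear_combination (norm := module) hcoc x.fst y.fst z.fst)
    mul_comm := fun x y => Hoch.ext (mul_comm x.fst y.fst) (by
      show x.fst • y.snd + y.fst • x.snd + f x.fst y.fst = y.fst • x.snd + x.fst • y.snd + f y.fst x.fst
      rw [hsymm x.fst y.fst]; abel)
    one_mul := fun x => Hoch.ext (one_mul x.fst) (by
      show (1 : B) • x.snd + x.fst • -f 1 1 + f 1 x.fst = x.snd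
      rw [Hoch.f_one f hcoc x.fst, one_smul, smul_neg]; abel)
    mul_one := fun x => Hoch.ext (mul_one x.fst) (by
      show x.fst • -f 1 1 + (1 : B) • x.snd + f x.fst 1 = x.snd
      rw [hsymm x.fst 1, Hoch.f_one f hcoc x.fst, one_smul, smul_neg]; abel)
    zero_mul := fun x => Hoch.ext (zero_mul x.fst) (by
      show (0 : B) • x.snd + x.fst • (0 : L) + f 0 x.fst = 0
      rw [zero_smul, smul_zero, map_zero, LinearMap.zero_apply, add_zero, add_zero])
    mul_zero := fun x => Hoch.ext (mul_zero x.fst) (by
      show x.fst • (0 : L) + (0 : B) • x.snd + f x.fst 0 = 0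
      rw [zero_smul, smul_zero, map_zero, add_zero, add_zero])
    left_distrib := fun x y z => Hoch.ext (mul_add x.fst y.fst z.fst) (by
      show x.fst • (y.snd + z.snd) + (y.fst + z.fst) • x.snd + f x.fst (y.fst + z.fst) =
        (x.fst • y.snd + y.fst • x.snd + f x.fst y.fst) + (x.fst • z.snd + z.fst • x.snd + f x.fst z.fst)
      rw [smul_add, add_smul, map_add]; abel)
    right_distrib := fun x y z => Hoch.ext (add_mul x.fst y.fst z.fst) (by
      show (x.fst + y.fst) • z.snd + z.fst • (x.snd + y.snd) + f (x.fst + y.fst) z.fst =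
        (x.fst • z.snd + z.fst • x.snd + f x.fst z.fst) + (y.fst • z.snd + z.fst • y.snd + f y.fst z.fst)
      rw [smul_add, add_smul, map_add, LinearMap.add_apply]; abel) }

end Groth.Agent.AdicEasyLib
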